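import Cfsg.Agent.Lib.Trans3.Spider.Collapse

/-! Generated coset enumeration certificate A6. -/

set_option autoImplicit false
set_option maxRecDepth 100000

namespace CfsgLib.Trans3.Spider.A6

open CfsgLib.InvChar.Coset

/-- facts -/
noncomputable def facts : Tr := (.leaf 0x7600007000075000070000740000700007300007000072000070000710000700006600006000065000060000640000600006300006000062000060000560000500005500005000054000050000530000500005000005000046000040000450000400004400004000041000040000400000400003600003000035000030000320000300003100003000030000030000260000200002300002000022000020000210000200002000002000014000010000130000100001200001000011000010000100000100000500000000004000000000030000000000200000000001000000000000000000007000006000061000050000520000400004300003000034000020000250000100001600000)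
/-- justifications -/
noncomputable def just : Tr := (.leaf 0x60002a000060041400400800018000a40001801040010020000600028000060040c004008000180009c000180102001002000060002600006004040040080001800014000840001400018010000100400005000250000500428004008000140009000014010900100200005000230000500420004008000140008800014010700100200005000040001d000040000500418004010000100008000010010e001002000040001f0000400434004008000100007800010010c00100200004000030001900003000040042c0040100001000070000100201001002000030001b00003004440040080000c000680000c011000100200003000020001500002000030043c0040100000c000600000c0207001002000030001700003008080040080000800058000080113001002000020000100011000010000200448004010000080005000008020c00100200002000130000200820004008000080004800008020300100200001000000000c0000000001004500040100000400040000040210001002000010000f00001008340040080000400038000040209001002000010000d0000100810004008000000002c000000213001002000000000a0000000844004008000000002400000020e00100200000000080000000828004008000000001c0000002050010028001400000200040000008000c0000020002000000800040000020000000000)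
/-- relators -/
def rels : List (List ℕ) := [[0, 1, 0, 1, 0, 1], [0, 2, 0, 2], [0, 3, 0, 3], [0, 4, 0, 4], [0, 5, 0, 5], [0, 6, 0, 6], [1, 2, 1, 2, 1, 2], [1, 3, 1, 3], [1, 4, 1, 4], [1, 5, 1, 5], [1, 6, 1, 6], [2, 3, 2, 3, 2, 3], [2, 4, 2, 4], [2, 5, 2, 5], [2, 6, 2, 6], [3, 4, 3, 4, 3, 4], [3, 5, 3, 5], [3, 6, 3, 6], [4, 5, 4, 5, 4, 5], [4, 6, 4, 6], [5, 6, 5, 6, 5, 6], [0, 0], [1, 1], [2, 2], [3, 3], [4, 4], [5, 5], [6, 6]]
/-- subgroup words -/
def subs : List (List ℕ) := [[0], [1], [2], [3], [4], [5]]
/-- the local letters -/
def emb : List ℕ := [3, 2, 1, 0, 5, 6, 11]
/-- certificate -/
noncomputable def cert : Cert := ⟨7, 49, 7, facts, just, rels, subs⟩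
/-- table -/
noncomputable def permTable : Tr := (.leaf 0x700007000070000700007000070000600006000060000600006000060000500007000050000500005000050000400006000050000400004000040000300005000040000400003000030000200004000030000300003000020000100003000020000200002000020000000002000010000100001000010000100001000000000000000000000000000000)
/-- node of a coset -/
noncomputable def live : Tr := (.leaf 0x700006000050000400003000020000100000)
/-- fact of an entry -/
noncomputable def fin : Tr := (.leaf 0x300002f0002e0002d0002c0002b000060002a00029000280002700026000050000600025000240002300022000040000500021000200001f0001e00003000040001d0001c0001b0001a000020000300019000180001700016000010000200015000140001300012000000000100011000100000f0000e0000d000000000c0000b0000a000090000800007)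
/-- table -/
noncomputable def table : Table := ⟨8, 7, permTable⟩

end CfsgLib.Trans3.Spider.A6
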